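import Cfsg.Agent.J4Rep94.S4.Data

/-!
# Certificate data
-/

set_option autoImplicit false
set_option maxRecDepth 100000

namespace Cfsg.Agent.J4Rep94.S4

open Cfsg.Agent.CosetEnum

def fv0 : ℕ := 0x91000010008e000c500002000490000500097000010008c000c3000020004c000030009d000010008a000c1000020004f00004000a30000100088000bf000020005200003000a90000100086000bd000020005500004000af0000100084000ba00002000580000300082000800007e0007c0007a00078000760007400072000700006e0006c0006a00068000660006400062000600005e0005c0005a00058000560005400052000500004e0004c0004a00048000460004400042000400003e0003c0003a000380003600034000b60009b000a1000a7000ad0002d000ae000a8000a20009c00096000900000100093000990009f000a5000ab000b1000b9000b20000f000570000200000000b0000aa000a40009e00098000b50000500007000090000b0000d0000f00011000130001500017000190001b0001d0001f00021000230002500027000290002b0002d0002f00031000950009b000a1000a7000ad000b3000230005a00001000320000100094000010001900000000020000100092000010000100000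
theorem fok0 : sys.checkFacts 90 10 fv0 = true := by decide +kernel


end Cfsg.Agent.J4Rep94.S4
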